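import Groth.Agent.QCoh.Ab.CechBridge
import Mathlib.CategoryTheory.Abelian.FunctorCategory
import Mathlib.SetTheory.Cardinal.Finite
import Mathlib.Algebra.Homology.ShortComplex.ExactFunctor
import Mathlib.CategoryTheory.Preadditive.AdditiveFunctor
import Mathlib.CategoryTheory.Preadditive.FunctorCategory
import Mathlib.Algebra.Category.Grp.Zero
import Mathlib.Algebra.Category.Grp.Colimits
import Mathlib.CategoryTheory.Limits.FunctorCategory.Finite

/-!
Vanishing of Cech cohomology of a presheaf in degrees at least the number of members of the family.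
-/

set_option autoImplicit false

universe u

open CategoryTheory CategoryTheory.Limits TopologicalSpace Opposite

namespace Groth.Agent.CechFinite

open Groth.Agent.QCoh.Ab

variable {X : TopCat.{u}} {ι : Type u}

/-- Cocycles of arity `p + 1` are coboundaries for `n ≤ p`. -/
def Vanish (P : TopCat.Presheaf AddCommGrpCat.{u} X) (U : ι → Opens X) (n : ℕ) : Prop :=
  ∀ p, n ≤ p → ∀ c : Cochain P U (p + 1), IsNatural c → d c = 0 →
    ∃ b : Cochain P U p, IsNatural b ∧ d b = c

/-- The image of a cochain. -/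
def mapC {P Q : TopCat.Presheaf AddCommGrpCat.{u} X} (φ : P ⟶ Q) {U : ι → Opens X} {p : ℕ}
    (c : Cochain P U p) : Cochain Q U p :=
  fun σ W => φ.app (op W.1) (c σ W)

variable {P Q : TopCat.Presheaf AddCommGrpCat.{u} X} {U : ι → Opens X}

lemma mapC_natural (φ : P ⟶ Q) {p : ℕ} {c : Cochain P U p} (hc : IsNatural c) :
    IsNatural (mapC φ c) := fun σ W W' h h' i => by
  show Q.map i.op (φ.app _ _) = φ.app _ _
  rw [← NatTrans.naturality_apply, hc σ W W' h h' i]

lemma mapC_d (φ : P ⟶ Q) {p : ℕ} (c : Cochain P U p) : mapC φ (d c) = d (mapC φ c) :=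
  funext fun σ => funext fun W => by simp [mapC, d, map_sum, map_zsmul]

/-- The largest open carrying the values at `σ`. -/
def top (U : ι → Opens X) {p : ℕ} (σ : Fin p → ι) : {W : Opens X // Le U σ W} :=
  ⟨⨅ a, U (σ a), fun a => iInf_le _ a⟩

/-- The natural cochain with given values on the largest opens. -/
def mk {p : ℕ} (v : ∀ σ : Fin p → ι, P.obj (op (top U σ).1)) : Cochain P U p :=
  fun σ W => P.map (homOfLE (le_iInf W.2 : W.1 ≤ (top U σ).1)).op (v σ)

lemma mk_natural {p : ℕ} (v : ∀ σ : Fin p → ι, P.obj (op (top U σ).1)) : IsNatural (mk v) :=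
  fun _ _ _ _ _ i => map_map'' P _ i _ _

lemma eq_of_top {p : ℕ} {c c' : Cochain P U p} (hc : IsNatural c) (hc' : IsNatural c')
    (h : ∀ σ, c σ (top U σ) = c' σ (top U σ)) : c = c' := by
  funext σ W
  rw [← hc σ (top U σ).1 W.1 (top U σ).2 W.2 (homOfLE (le_iInf W.2)),
    ← hc' σ (top U σ).1 W.1 (top U σ).2 W.2 (homOfLE (le_iInf W.2))]
  exact congrArg _ (h σ)

lemma mk_top {p : ℕ} (v : ∀ σ : Fin p → ι, P.obj (op (top U σ).1)) (σ : Fin p → ι) :
    mk v σ (top U σ) = v σ := map_self P _ _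

lemma d_add' {p : ℕ} (c c' : Cochain P U p) : d (c + c') = d c + d c' := by
  funext σ W
  simp [d, smul_add, Finset.sum_add_distrib]

lemma exists_lift (φ : P ⟶ Q) (hφ : ∀ W, Function.Surjective (φ.app W)) {p : ℕ} {c : Cochain Q U p}
    (hc : IsNatural c) : ∃ b : Cochain P U p, IsNatural b ∧ mapC φ b = c := by
  choose v hv using fun σ => hφ _ (c σ (top U σ))
  refine ⟨mk v, mk_natural v, eq_of_top (mapC_natural φ (mk_natural v)) hc fun σ => ?_⟩
  exact (congrArg (φ.app _) (mk_top v σ)).trans (hv σ)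

section

variable [DecidableEq ι] (i₀ : ι)

lemma le_member {p : ℕ} {σ : Fin p → ι} {W : Opens X} (h : Le U σ W) (hσ : ¬ ∀ a, σ a ≠ i₀) :
    W ≤ U i₀ := by
  obtain ⟨a, ha⟩ := not_forall.1 hσ
  exact (h a).trans (le_of_eq (congrArg U (not_not.1 ha)))

theorem vanish_of_isZero_below (hP : ∀ W : Opens X, W ≤ U i₀ → ∀ x : P.obj (op W), x = 0) (n : ℕ)
    (h : Vanish P (fun i : {i // i ≠ i₀} => U i.1) n) : Vanish P U n := by
  intro p hp c hc hd
  let U' := fun i : {i // i ≠ i₀} => U i.1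
  let c' : Cochain P U' (p + 1) := fun σ W => c (fun a => (σ a).1) ⟨W.1, W.2⟩
  obtain ⟨b', hb', hb⟩ := h p hp c' (fun σ W W' hW hW' i => hc (fun a => (σ a).1) W W' hW hW' i)
    (funext fun σ => funext fun W =>
      congrFun (congrFun hd fun a => (σ a).1) ⟨W.1, W.2⟩)
  let b : Cochain P U p := fun σ W =>
    if hσ : ∀ a, σ a ≠ i₀ then b' (fun a => ⟨σ a, hσ a⟩) ⟨W.1, W.2⟩ else 0
  refine ⟨b, fun σ W W' hW hW' i => ?_, funext fun σ => funext fun W => ?_⟩
  · by_cases hσ : ∀ a, σ a ≠ i₀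
    · simp only [b, dif_pos hσ]
      exact hb' (fun a => ⟨σ a, hσ a⟩) W W' hW hW' i
    · simp only [b, dif_neg hσ]
      exact map_zero _
  · by_cases hσ : ∀ a, σ a ≠ i₀
    · refine Eq.trans (Finset.sum_congr rfl fun a _ => ?_)
        (congrFun (congrFun hb fun a => ⟨σ a, hσ a⟩) ⟨W.1, W.2⟩)
      exact congrArg ((-1 : ℤ) ^ (a : ℕ) • ·) (dif_pos fun b => hσ (a.succAbove b))
    · rw [hP W.1 (le_member i₀ W.2 hσ) (d b σ W), hP W.1 (le_member i₀ W.2 hσ) (c σ W)]

/-- The presheaf `W ↦ P (W ⊓ V)`. -/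
def restr (P : TopCat.Presheaf AddCommGrpCat.{u} X) (V : Opens X) :
    TopCat.Presheaf AddCommGrpCat.{u} X :=
  (show Monotone fun W : Opens X => W ⊓ V from fun _ _ h => inf_le_inf_right V h).functor.op ⋙ P

/-- Restriction to `W ⊓ V`. -/
def toRestr (P : TopCat.Presheaf AddCommGrpCat.{u} X) (V : Opens X) : P ⟶ restr P V where
  app W := P.map (homOfLE (inf_le_left : W.unop ⊓ V ≤ W.unop)).op
  naturality W W' f := by
    exact (P.map_comp _ _).symm.trans ((congrArg P.map (Subsingleton.elim _ _)).trans (P.map_comp _ _))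

lemma toRestr_bijective (P : TopCat.Presheaf AddCommGrpCat.{u} X) {V W : Opens X} (h : W ≤ V) :
    Function.Bijective ((toRestr P V).app (op W)) := by
  have hW : W ⊓ V = W := inf_eq_left.2 h
  have : IsIso (homOfLE (inf_le_left : W ⊓ V ≤ W)) := ⟨homOfLE hW.ge, Subsingleton.elim _ _, Subsingleton.elim _ _⟩
  exact ConcreteCategory.bijective_of_isIso (P.map (homOfLE (inf_le_left : W ⊓ V ≤ W)).op)

lemma d_cons_restr (P : TopCat.Presheaf AddCommGrpCat.{u} X) (U : ι → Opens X) {p : ℕ}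
    (c : Cochain P U (p + 1)) (hc : IsNatural c) (hd : d c = 0) :
    ∃ b : Cochain (restr P (U i₀)) U p, IsNatural b ∧ d b = mapC (toRestr P (U i₀)) c := by
  let b : Cochain (restr P (U i₀)) U p := fun σ W =>
    c (Fin.cons i₀ σ) ⟨W.1 ⊓ U i₀, Fin.cases inf_le_right fun a => inf_le_left.trans (W.2 a)⟩
  refine ⟨b, fun σ W W' hW hW' i => hc _ _ _ _ _ _, funext fun σ => funext fun W => ?_⟩
  have h := congrFun (congrFun hd (Fin.cons i₀ σ)) ⟨W.1 ⊓ U i₀,
    Fin.cases inf_le_right fun a => inf_le_left.trans (W.2 a)⟩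
  rw [d_cons c i₀ σ (W.1 ⊓ U i₀) inf_le_right fun a => inf_le_left.trans (W.2 a)] at h
  refine Eq.trans ?_ ((sub_eq_zero.1 h).symm.trans
    (hc σ W.1 (W.1 ⊓ U i₀) W.2 (fun a => inf_le_left.trans (W.2 a)) (homOfLE inf_le_left)).symm)
  refine Finset.sum_congr rfl fun a _ => ?_
  rfl

end

theorem vanish_all (n : ℕ) : ∀ {ι : Type u} [Finite ι], Nat.card ι ≤ n →
    ∀ (P : TopCat.Presheaf AddCommGrpCat.{u} X) (U : ι → Opens X), Vanish P U n := by
  induction n with
  | zero =>
    intro ι _ hι P U p _ c _ _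
    have : IsEmpty ι := Finite.card_eq_zero_iff.1 (Nat.le_zero.1 hι)
    exact ⟨0, fun _ _ _ _ _ _ => map_zero _, funext fun σ => (IsEmpty.false (σ 0)).elim⟩
  | succ n ih =>
    intro ι _ hι P U p hp c hc hd
    classical
    rcases isEmpty_or_nonempty ι with h | ⟨⟨i₀⟩⟩
    · exact ⟨0, fun _ _ _ _ _ _ => map_zero _, funext fun σ => (IsEmpty.false (σ 0)).elim⟩
    have hcard : Nat.card {i // i ≠ i₀} ≤ n := by
      have := Fintype.ofFinite ι
      rw [Nat.card_eq_fintype_card] at hι ⊢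
      have : Fintype.card {i // i ≠ i₀} < Fintype.card ι := Fintype.card_subtype_lt (x := i₀) (by simp)
      omega
    obtain ⟨p, rfl⟩ : ∃ q, p = q + 1 := ⟨p - 1, by omega⟩
    let φ := toRestr P (U i₀)
    have : ∀ W, PreservesFiniteLimits ((evaluation (Opens X)ᵒᵖ AddCommGrpCat.{u}).obj W) :=
      fun _ => ⟨fun _ _ _ => inferInstance⟩
    have : ∀ W, PreservesFiniteColimits ((evaluation (Opens X)ᵒᵖ AddCommGrpCat.{u}).obj W) :=
      fun _ => ⟨fun _ _ _ => inferInstance⟩
    have : ∀ W, ((evaluation (Opens X)ᵒᵖ AddCommGrpCat.{u}).obj W).PreservesZeroMorphisms :=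
      fun _ => { map_zero := fun _ _ => rfl }
    obtain ⟨b₀, hb₀, hdb₀⟩ := d_cons_restr i₀ P U c hc hd
    let M := cokernel φ
    let π : restr P (U i₀) ⟶ M := cokernel.π φ
    have hπ : ∀ W, Function.Surjective (π.app W) := fun W =>
      (AddCommGrpCat.epi_iff_surjective _).1 inferInstance
    have hπφ : ∀ W (x : P.obj W), π.app W (φ.app W x) = 0 := fun W x =>
      ConcreteCategory.congr_hom (NatTrans.congr_app (cokernel.condition φ) W) x
    have hexM : ∀ W (y : (restr P (U i₀)).obj W), π.app W y = 0 → ∃ x, φ.app W x = y := fun W =>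
      (ShortComplex.ab_exact_iff _).1 ((ShortComplex.exact_of_g_is_cokernel
        (ShortComplex.mk φ π (cokernel.condition φ)) (cokernelIsCokernel φ)).map
          ((evaluation (Opens X)ᵒᵖ AddCommGrpCat.{u}).obj W))
    have hM : ∀ W : Opens X, W ≤ U i₀ → ∀ x : M.obj (op W), x = 0 := fun W hW x => by
      obtain ⟨y, rfl⟩ := hπ (op W) x
      obtain ⟨z, rfl⟩ := (toRestr_bijective P hW).2 y
      exact hπφ _ z
    obtain ⟨m, hm, hdm⟩ := vanish_of_isZero_below i₀ hM n (ih hcard M _) p (by omega)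
      (mapC π b₀) (mapC_natural π hb₀) (by
        rw [← mapC_d, hdb₀]
        exact funext fun σ => funext fun W => hπφ _ _)
    obtain ⟨b₁, hb₁, rfl⟩ := exists_lift π hπ hm
    have hb₂ : IsNatural (b₀ - d b₁) := fun σ W W' h h' i => by
      show (restr P (U i₀)).map i.op (b₀ σ ⟨W, h⟩ - d b₁ σ ⟨W, h⟩) = b₀ σ ⟨W', h'⟩ - d b₁ σ ⟨W', h'⟩
      rw [map_sub, hb₀ σ W W' h h' i, d_natural hb₁ σ W W' h h' i]
    choose v hv using fun σ => hexM _ ((b₀ - d b₁) σ (top U σ)) (by
      show π.app _ (b₀ σ _ - d b₁ σ _) = 0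
      rw [map_sub, sub_eq_zero]
      exact (congrFun (congrFun (mapC_d π b₁ |>.trans hdm) σ) (top U σ)).symm)
    have hbv : mapC φ (mk v) = b₀ - d b₁ :=
      eq_of_top (mapC_natural φ (mk_natural v)) hb₂ fun σ =>
        (congrArg (φ.app _) (mk_top v σ)).trans (hv σ)
    let N := kernel φ
    let κ : N ⟶ P := kernel.ι φ
    have hκ : ∀ W, Function.Injective (κ.app W) := fun W =>
      (AddCommGrpCat.mono_iff_injective _).1 inferInstance
    have hφκ : ∀ W (x : N.obj W), φ.app W (κ.app W x) = 0 := fun W x =>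
      ConcreteCategory.congr_hom (NatTrans.congr_app (kernel.condition φ) W) x
    have hexN : ∀ W (y : P.obj W), φ.app W y = 0 → ∃ x, κ.app W x = y := fun W =>
      (ShortComplex.ab_exact_iff _).1 ((ShortComplex.exact_of_f_is_kernel
        (ShortComplex.mk κ φ (kernel.condition φ)) (kernelIsKernel φ)).map
          ((evaluation (Opens X)ᵒᵖ AddCommGrpCat.{u}).obj W))
    have hN : ∀ W : Opens X, W ≤ U i₀ → ∀ x : N.obj (op W), x = 0 := fun W hW x =>
      hκ _ (((toRestr_bijective P hW).1 ((hφκ _ x).trans (map_zero _).symm)).trans (map_zero _).symm)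
    have hc₁ : IsNatural (c - d (mk v)) := fun σ W W' h h' i => by
      show P.map i.op (c σ ⟨W, h⟩ - d (mk v) σ ⟨W, h⟩) = c σ ⟨W', h'⟩ - d (mk v) σ ⟨W', h'⟩
      rw [map_sub, hc σ W W' h h' i, d_natural (mk_natural v) σ W W' h h' i]
    choose w hw using fun σ => hexN _ ((c - d (mk v)) σ (top U σ)) (by
      show φ.app _ (c σ _ - d (mk v) σ _) = 0
      rw [map_sub, sub_eq_zero]
      refine Eq.trans ?_ (congrFun (congrFun (mapC_d φ (mk v)) σ) (top U σ)).symm
      rw [hbv, d_sub, d_d, sub_zero, hdb₀]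
      rfl)
    have hcw : mapC κ (mk w) = c - d (mk v) :=
      eq_of_top (mapC_natural κ (mk_natural w)) hc₁ fun σ =>
        (congrArg (κ.app _) (mk_top w σ)).trans (hw σ)
    obtain ⟨e, he, hde⟩ := vanish_of_isZero_below i₀ hN n (ih hcard N _) (p + 1) (by omega)
      (mk w) (mk_natural w) (funext fun σ => funext fun W => hκ _ (by
        refine (congrFun (congrFun (mapC_d κ (mk w)) σ) W).trans (Eq.trans ?_ (map_zero _).symm)
        rw [hcw, d_sub, hd, d_d, sub_zero]
        rfl))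
    refine ⟨mk v + mapC κ e, fun σ W W' h h' i => ?_, ?_⟩
    · show P.map i.op (mk v σ ⟨W, h⟩ + mapC κ e σ ⟨W, h⟩) = mk v σ ⟨W', h'⟩ + mapC κ e σ ⟨W', h'⟩
      rw [map_add, mk_natural v σ W W' h h' i, mapC_natural κ he σ W W' h h' i]
    · rw [d_add', ← mapC_d, hde, hcw, add_sub_cancel]

theorem isZero_cechH [Finite ι] (P : (Opens X)ᵒᵖ ⥤ AddCommGrpCat.{u}) (U : ι → Opens X) (q : ℕ)
    (hq : Nat.card ι ≤ q) : IsZero (((cechComplexFunctor U).obj P).homology q) := by
  rw [← (HomologicalComplex.homologyMapIso (cechIso P U) q).isZero_iff,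
    ← HomologicalComplex.exactAt_iff_isZero_homology]
  cases q with
  | zero =>
    have : IsEmpty ι := Finite.card_eq_zero_iff.1 (Nat.le_zero.1 hq)
    refine ShortComplex.exact_of_isZero_X₂ _ ?_
    have : Subsingleton (natCochains P U 1) :=
      ⟨fun a b => Subtype.ext (funext fun σ => (IsEmpty.false (σ 0)).elim)⟩
    exact @AddCommGrpCat.isZero_of_subsingleton (AddCommGrpCat.of (natCochains P U 1)) this
  | succ p =>
    rw [HomologicalComplex.exactAt_iff' _ p (p + 1) (p + 2) (by simp) (by simp),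
      ShortComplex.ab_exact_iff]
    simp only [HomologicalComplex.sc', HomologicalComplex.shortComplexFunctor'_obj_f,
      HomologicalComplex.shortComplexFunctor'_obj_g, natCx_d]
    intro c hc
    obtain ⟨b, hb, hdb⟩ :=
      vanish_all (Nat.card ι) le_rfl P U (p + 1) hq c.1 c.2 (congrArg Subtype.val hc)
    exact ⟨⟨b, hb⟩, Subtype.ext hdb⟩

end Groth.Agent.CechFinite
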